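import Cfsg.Agent.Lib.LocalEven.PushUp.Local

/-!
# Pushing up: the setup inside an overgroup
-/

set_option autoImplicit false
set_option linter.all false

namespace CfsgLib.PushUp

open Subgroup
open scoped commutatorElement

variable {G : Type*} [Group G] [Finite G] {p : ℕ} [Fact p.Prime]

/-- The setup inside an overgroup. -/
theorem RankOne.setup_map {q : ℕ} {S : Sylow p G} {M : Subgroup G} (h : RankOne p q S M)
    (hE₁ : centralizer (Cfsg.pCore p G : Set G) ≤ Cfsg.pCore p G) {W : Type*} [Group W] (ι : G →* W)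
    (hι : Function.Injective ι) (N : Subgroup W) (hNn : Stable N ((S : Subgroup G).map ι))
    (hcore : ∀ T : Subgroup W, T ≤ (S : Subgroup G).map ι → Stable ((⊤ : Subgroup G).map ι) T → Stable N T → T = ⊥) :
    Setup p ((⊤ : Subgroup G).map ι) ((S : Subgroup G).map ι) ((Cfsg.pCore p G).map ι) (M.map ι) N := by
  have hmap : ∀ {A : Subgroup G} {x : G}, ι x ∈ A.map ι ↔ x ∈ A := fun {A x} =>
    ⟨fun ⟨y, hy, e⟩ => hι e ▸ hy, fun hx => ⟨x, hx, rfl⟩⟩
  exact
    { SG := map_mono le_top
      MG := map_mono le_top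
      SM := map_mono h.Sle
      Mne := fun e => h.Mne (map_injective hι e)
      pS := S.2.map ι
      syl := fun H hH hSH D hDH hD => by
        have hrange : D ≤ ι.range := (hDH.trans hH).trans (map_le_range ι ⊤)
        have hD' : IsPGroup p (D.comap ι) := hD.comap_of_injective ι hι
        have hS' : (S : Subgroup G) ≤ H.comap ι := fun x hx => hSH ⟨x, hx, rfl⟩
        obtain ⟨R, hR⟩ := (hD'.comap_of_injective (H.comap ι).subtype (Subgroup.subtype_injective _)).exists_le_sylow
        obtain ⟨c, hc⟩ := MulAction.exists_smul_eq (↥(H.comap ι)) (S.subtype hS') R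
        refine ⟨ι c, c.2, fun d hd => ?_⟩
        obtain ⟨x, rfl⟩ := hrange hd
        have hxH : x ∈ H.comap ι := hDH hd
        have h1 : (⟨x, hxH⟩ : ↥(H.comap ι)) ∈ (c • S.subtype hS' : Sylow p ↥(H.comap ι)) :=
          hc.symm ▸ hR (show x ∈ D.comap ι from hd)
        obtain ⟨w, hw, e⟩ := h1
        have e' : (c : G) * w * (c : G)⁻¹ = x := congrArg Subtype.val e
        rw [← e', map_mul, map_mul, map_inv]
        exact conj_mem_cj ⟨w, hw, rfl⟩
      huniq := fun H hSH hH hne => by
        have hr : H ≤ ι.range := hH.trans (map_le_range ι ⊤)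
        rw [← map_comap_eq_self hr]
        refine map_mono (h.huniq _ (fun x hx => hSH ⟨x, hx, rfl⟩) fun e => hne ?_)
        rw [← map_comap_eq_self hr, e]
      QS := map_mono (CfsgLib.Core.pCore_le_sylow S)
      SQ := fun hle => h.SQ fun x hx => hmap.1 (hle ⟨x, hx, rfl⟩)
      Qn := by
        rintro _ ⟨g, -, rfl⟩ _ ⟨x, hx, rfl⟩
        exact ⟨g * x * g⁻¹, (CfsgLib.Core.normal_pCore p G).conj_mem x hx g, by rw [map_mul, map_mul, map_inv]⟩
      Qmax := fun D hD hst x hx => by
        obtain ⟨y, hy, rfl⟩ := hD hx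
        haveI : (D.comap ι).Normal := ⟨fun a ha g => by
          rw [mem_comap, map_mul, map_mul, map_inv]
          exact hst _ ⟨g, trivial, rfl⟩ _ ha⟩
        refine hmap.2 (CfsgLib.Core.le_pCore (N := D.comap ι) ?_ hx)
        exact S.2.to_le fun a ha => hmap.1 (hD ha)
      selfC := by
        rintro x ⟨⟨g, -, rfl⟩, hx⟩
        refine hmap.2 (hE₁ (mem_centralizer_iff.2 fun q hq => hι ?_))
        rw [map_mul, map_mul]
        exact mem_centralizer_iff.1 hx _ ⟨q, hq, rfl⟩
      ti := by
        rintro _ ⟨g, -, rfl⟩ hg _ ⟨x, hx, rfl⟩ hx'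
        rw [← map_inv, ← map_mul, ← map_mul, hmap] at hx'
        exact hmap.2 (h.ti g (fun hc => hg (hmap.2 hc)) x hx hx')
      ab := by
        rintro _ ⟨x, hx, rfl⟩ _ ⟨y, hy, rfl⟩
        rw [← map_commutatorElement]
        exact hmap.2 (h.ab x hx y hy)
      pw := by
        rintro _ ⟨x, hx, rfl⟩
        rw [← map_pow]
        exact hmap.2 (h.pw x hx)
      Nn := hNn
      core := hcore }

end CfsgLib.PushUp
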