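import Cfsg.Prelude.Def_LocalEven
import Cfsg.Agent.Lib.LocalEven.Qd
import Cfsg.Agent.Lib.Classical.PSLTwoSimple
import Cfsg.Agent.Lib.Core.Gaschutz
import Cfsg.Agent.Lib.LocalEvenB.IsolatedMinimal

/-!
# Pushing up: splitting off the group `Qd`
-/

set_option autoImplicit false
set_option linter.all false

namespace CfsgLib.PushUp

open Subgroup Matrix
open scoped commutatorElement MatrixGroups

theorem card_eq_mul_of_decomp {W : Type*} [Group W] {V C T : Subgroup W} (hV : V ≤ T) (hC : C ≤ T)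
    (hi : ∀ x ∈ V, x ∈ C → x = 1) (h : ∀ g ∈ T, ∃ v ∈ V, ∃ c ∈ C, g = v * c) :
    Nat.card ↥T = Nat.card ↥V * Nat.card ↥C := by
  rw [← Nat.card_prod]
  refine (Nat.card_congr (Equiv.ofBijective (fun x : ↥V × ↥C => (⟨(x.1 : W) * x.2, mul_mem (hV x.1.2) (hC x.2.2)⟩ : ↥T))
    ⟨fun x y e => ?_, fun g => ?_⟩)).symm
  · have e' : (x.1 : W) * x.2 = y.1 * y.2 := congrArg Subtype.val e
    have h1 : (y.1 : W)⁻¹ * x.1 = (y.2 : W) * (x.2 : W)⁻¹ := by
      rw [inv_mul_eq_iff_eq_mul, ← mul_assoc, eq_mul_inv_iff_mul_eq]; exact e'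
    have h2 := hi _ (mul_mem (inv_mem y.1.2) x.1.2) (h1 ▸ mul_mem y.2.2 (inv_mem x.2.2))
    have h3 : (y.1 : W) = x.1 := inv_mul_eq_one.1 h2
    rw [h3, mul_right_inj] at e'
    exact Prod.ext (Subtype.ext h3.symm) (Subtype.ext e')
  · obtain ⟨v, hv, c, hc, e⟩ := h g g.2
    exact ⟨(⟨v, hv⟩, ⟨c, hc⟩), Subtype.ext e.symm⟩

variable {X : Type*} [Group X] [Finite X]

set_option maxHeartbeats 1000000 in
/-- A group with a natural module over a central group, in odd characteristic, is `Qd × E`. -/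
theorem exists_qd_split {p : ℕ} [Fact p.Prime] (hp : 5 ≤ p) (F : Type*) [Field F] [Fintype F] [CharP F p]
    (S Q A B Y H₁ : Subgroup X) [Q.Normal] [A.Normal] [H₁.Normal]
    (hpS : IsPGroup p S) (hidx : (Nat.card ↥Q).Coprime S.index) (hQS : Q ≤ S) (hexp : ∀ s ∈ S, s ^ p = 1)
    (hAQ : A ≤ Q) (hQab : ∀ a ∈ Q, ∀ b ∈ Q, a * b = b * a) (hBA : B ≤ A) (hBc : ∀ b ∈ B, ∀ g : X, g * b = b * g)
    (hY : ∀ a ∈ Y, ∀ b ∈ Y, a * b = b * a) (hSY : S ≤ A ⊔ Y)
    (hHQ : H₁ ⊔ Q = ⊤) (hHc : ∀ g ∈ H₁, ∀ q ∈ Q, g * q * g⁻¹ * q⁻¹ ∈ A)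
    (χ : X → (Fin 2 → F)) (σ : X →* SL(2, F)) (hσs : Function.Surjective σ) (hσk : ∀ g, σ g = 1 ↔ g ∈ Q)
    (hadd : ∀ u ∈ A, ∀ v ∈ A, χ (u * v) = χ u + χ v) (hsur : ∀ w, ∃ u ∈ A, χ u = w)
    (hk : ∀ u ∈ A, (χ u = 0 ↔ u ∈ B))
    (hact : ∀ g, ∀ u ∈ A, χ (g * u * g⁻¹) = (σ g : Matrix (Fin 2) (Fin 2) F) *ᵥ χ u) :
    ∃ (ψ : ↥(Cfsg.qdOver F) →* X) (E : Subgroup X), Function.Injective ψ ∧ Cfsg.IsElementaryAbelian p E ∧
      (∀ e ∈ E, ∀ g : X, g * e = e * g) ∧ ψ.range ⊓ E = ⊥ ∧ ψ.range ⊔ E = ⊤ := by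
  have hpp : p.Prime := Fact.out
  have hodd : Odd p := hpp.odd_of_ne_two (by omega)
  obtain ⟨j, hj⟩ := hodd
  have h2ne : (2 : F) ≠ 0 := by
    intro e
    have h1 : ((2 : ℕ) : F) = 0 := by exact_mod_cast e
    have := Nat.le_of_dvd two_pos ((CharP.cast_eq_zero_iff F p 2).1 h1)
    omega
  -- the involution
  obtain ⟨t, htt, htσ⟩ : ∃ t : X, t * t = 1 ∧ σ t = -1 := by
    obtain ⟨g, hg⟩ := hσs (-1)
    refine ⟨g ^ p, ?_, ?_⟩
    · rw [← (Commute.refl g).mul_pow]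
      exact hexp _ (hQS ((hσk _).1 (by rw [map_mul, hg]; exact neg_one_mul (-1) |>.trans (neg_neg _))))
    · rw [map_pow, hg, hj, pow_succ, pow_mul, show ((-1 : SL(2, F)) ^ 2) = 1 from neg_one_sq, one_pow, one_mul]
  have ht2 : t⁻¹ = t := inv_eq_of_mul_eq_one_right htt
  have htH : t ∈ H₁ := by
    obtain ⟨h, hh, q, hq, e⟩ := mem_sup_of_normal_right.1 (hHQ.ge (mem_top t))
    refine (QuotientGroup.eq_one_iff t).1 (orderOf_eq_one_iff.1 (Nat.eq_one_of_dvd_coprimes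
      ((Nat.coprime_primes Nat.prime_two hpp).2 (by omega)) ?_ ?_))
    · exact orderOf_dvd_of_pow_eq_one (by rw [← QuotientGroup.mk_pow, pow_two, htt, QuotientGroup.mk_one])
    · refine orderOf_dvd_of_pow_eq_one ?_
      rw [← e, QuotientGroup.mk_mul, (QuotientGroup.eq_one_iff h).2 hh, one_mul, ← QuotientGroup.mk_pow,
        hexp q (hQS hq), QuotientGroup.mk_one]
  obtain ⟨C, hC⟩ : ∃ C : Subgroup X, ∀ g, g ∈ C ↔ g * t = t * g :=
    ⟨centralizer {t}, fun g => mem_centralizer_singleton_iff⟩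
  have hAab : ∀ a ∈ A, ∀ b ∈ A, a * b = b * a := fun a ha b hb => hQab a (hAQ ha) b (hAQ hb)
  let V : Subgroup X :=
    { carrier := {a | a ∈ A ∧ t * a * t = a⁻¹}
      one_mem' := ⟨one_mem _, by simpa using htt⟩
      mul_mem' := fun {a b} ha hb => ⟨mul_mem ha.1 hb.1, by
        calc t * (a * b) * t = t * a * 1 * (b * t) := by group
          _ = t * a * (t * t) * (b * t) := by rw [htt]
          _ = (t * a * t) * (t * b * t) := by group
          _ = a⁻¹ * b⁻¹ := by rw [ha.2, hb.2]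
          _ = (a * b)⁻¹ := by rw [_root_.mul_inv_rev, hAab _ (inv_mem ha.1) _ (inv_mem hb.1)]⟩
      inv_mem' := fun {a} ha => ⟨inv_mem ha.1, by
        calc t * a⁻¹ * t = (t⁻¹ * a * t⁻¹)⁻¹ := by group
          _ = _ := by rw [ht2, ha.2]⟩ }
  have hVmem : ∀ a, a ∈ V ↔ a ∈ A ∧ t * a * t = a⁻¹ := fun a => Iff.rfl
  have hVA : V ≤ A := fun a ha => ha.1
  have hVQ : V ≤ Q := hVA.trans hAQ
  have hroot : ∀ v ∈ V, ∃ w ∈ V, w * w = v := fun v hv => ⟨v ^ (j + 1), pow_mem hv _, by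
    rw [← pow_add, show j + 1 + (j + 1) = p + 1 by omega, pow_succ, hexp v (hQS (hVQ hv)), one_mul]⟩
  have hVC : ∀ x ∈ V, x ∈ C → x = 1 := fun x hx hxc => by
    have h1 : x⁻¹ = x := by rw [← hx.2, ← (hC x).1 hxc, mul_assoc, htt, mul_one]
    have h2 : x ^ 2 = 1 := by rw [pow_two]; nth_rewrite 1 [← h1]; exact inv_mul_cancel x
    have h3 := hexp x (hQS (hVQ hx))
    rwa [hj, pow_succ, pow_mul, h2, one_pow, one_mul] at h3
  have hBC : B ≤ C := fun b hb => (hC b).2 (hBc b hb t).symm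
  have hAC : ∀ a ∈ A, a ∈ C → a ∈ B := fun a ha hac => (hk a ha).1 <| by
    have h1 : t * a * t⁻¹ = a := by rw [← (hC a).1 hac, mul_inv_cancel_right]
    have h2 := hact t a ha
    rw [h1, htσ, Matrix.SpecialLinearGroup.coe_neg, Matrix.SpecialLinearGroup.coe_one, neg_mulVec, one_mulVec] at h2
    funext i
    have h3 : χ a i + χ a i = 0 := by
      have := congrFun h2 i
      rw [Pi.neg_apply] at this
      exact add_eq_zero_iff_eq_neg.2 this
    rw [← two_mul] at h3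
    exact (mul_eq_zero.1 h3).resolve_left h2ne
  -- decomposition of `Q`
  have hQdec : ∀ q ∈ Q, ∃ v ∈ V, ∃ c ∈ C, c ∈ Q ∧ q = v * c := by
    intro q hq
    obtain ⟨a, ha⟩ : ∃ a, a = t * q * t⁻¹ * q⁻¹ := ⟨_, rfl⟩
    have haA : a ∈ A := ha ▸ hHc t htH q hq
    have haV : a ∈ V := ⟨haA, by
      have hqa : a⁻¹ = q * (t * q⁻¹ * t⁻¹) := by rw [ha]; group
      rw [hqa, ha, ht2]
      calc t * (t * q * t * q⁻¹) * t = (t * t) * q * (t * q⁻¹ * t) := by group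
        _ = _ := by rw [htt, one_mul]⟩
    obtain ⟨w, hw, hww⟩ := hroot a haV
    refine ⟨w⁻¹, inv_mem hw, w * q, (hC _).2 ?_, mul_mem (hVQ hw) hq, by group⟩
    have h1 : t * (w * q) * t = w * q := by
      have hq' : t * q * t = a * q := by rw [ha, ht2]; group
      calc t * (w * q) * t = t * w * 1 * (q * t) := by group
        _ = (t * w * t) * (t * q * t) := by rw [← htt]; group
        _ = w⁻¹ * (a * q) := by rw [hw.2, hq']
        _ = w * q := by rw [← hww]; group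
    calc w * q * t = t * (w * q) * t * t := by rw [h1]
      _ = t * (w * q) * (t * t) := by group
      _ = t * (w * q) := by rw [htt, mul_one]
  -- the Frattini argument
  have hGdec : ∀ g : X, ∃ v ∈ V, ∃ c ∈ C, g = v * c := by
    intro g
    obtain ⟨q, hq⟩ : ∃ q, q = g * t * g⁻¹ * t := ⟨_, rfl⟩
    have hqQ : q ∈ Q := (hσk q).1 (by
      have hcen : σ g * (-1 : SL(2, F)) = (-1) * σ g := by rw [mul_neg, mul_one, neg_mul, one_mul]
      rw [hq, map_mul, map_mul, map_mul, map_inv, htσ, hcen, mul_inv_cancel_right, neg_mul_neg, one_mul])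
    have hg : g * t * g⁻¹ = q * t := by rw [hq]; simp [mul_assoc, htt]
    have hsq : (q * t) * (q * t) = 1 := by
      rw [← hg, show g * t * g⁻¹ * (g * t * g⁻¹) = g * (t * t) * g⁻¹ by group, htt, mul_one, mul_inv_cancel]
    obtain ⟨v, hv, c, hc, hcQ, rfl⟩ := hQdec q hqQ
    have hc2 : c * c = 1 := by
      calc c * c = (v * c * v⁻¹) * c := by rw [hQab v (hVQ hv) c hcQ, mul_inv_cancel_right]
        _ = v * c * (t * v * t) * c := by rw [hv.2]
        _ = v * c * t * v * (t * c) := by group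
        _ = v * c * t * v * (c * t) := by rw [(hC c).1 hc]
        _ = (v * c * t) * (v * c * t) := by group
        _ = 1 := hsq
    have hc1 : c = 1 := by
      have h3 := hexp c (hQS hcQ)
      rwa [hj, pow_succ, pow_mul, pow_two, hc2, one_pow, one_mul] at h3
    subst hc1
    rw [mul_one] at hg
    obtain ⟨w, hw, hww⟩ := hroot v hv
    refine ⟨w, hw, w⁻¹ * g, (hC _).2 ?_, by group⟩
    have hwt : w * t * w⁻¹ = v * t := by
      calc w * t * w⁻¹ = w * t * (t * w * t) := by rw [hw.2]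
        _ = w * (t * t) * w * t := by group
        _ = v * t := by rw [htt, mul_one, hww]
    calc w⁻¹ * g * t = w⁻¹ * (g * t * g⁻¹) * g := by group
      _ = w⁻¹ * (w * t * w⁻¹) * g := by rw [hg, hwt]
      _ = _ := by group
  haveI hVn : V.Normal := ⟨fun a ha g => by
    obtain ⟨v, hv, c, hc, rfl⟩ := hGdec g
    have h1 : c * a * c⁻¹ ∈ V := ⟨(inferInstance : A.Normal).conj_mem a ha.1 c, by
      have hct : t * c = c * t := ((hC c).1 hc).symm
      have hct' : c⁻¹ * t = t * c⁻¹ := by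
        rw [inv_mul_eq_iff_eq_mul, ← mul_assoc, eq_mul_inv_iff_mul_eq]; exact hct
      calc t * (c * a * c⁻¹) * t = (t * c) * a * (c⁻¹ * t) := by group
        _ = c * (t * a * t) * c⁻¹ := by rw [hct, hct']; group
        _ = _ := by rw [ha.2]; group⟩
    have h2 := mul_mem (mul_mem hv h1) (inv_mem hv)
    rw [show v * c * a * (v * c)⁻¹ = v * (c * a * c⁻¹) * v⁻¹ by group]
    exact h2⟩
  -- `Z` is central
  obtain ⟨Z, hZ⟩ : ∃ Z : Subgroup X, Z = Q ⊓ C := ⟨_, rfl⟩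
  have hσC : ∀ T : SL(2, F), ∃ c : ↥C, σ c = T := fun T => by
    obtain ⟨g, rfl⟩ := hσs T
    obtain ⟨v, hv, c, hc, rfl⟩ := hGdec g
    exact ⟨⟨c, hc⟩, by rw [map_mul, (hσk v).2 (hVQ hv), one_mul]⟩
  have h4 : 4 ≤ Fintype.card F := by
    have := Nat.le_of_dvd Fintype.card_pos (by
      obtain ⟨n, -, e⟩ := FiniteField.card F p
      rw [e]; exact dvd_pow_self p n.ne_zero : p ∣ Fintype.card F)
    omega
  have hZcen : ∀ z ∈ Z, ∀ g : X, g * z = z * g := by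
    intro z hz g
    rw [hZ] at hz
    have hval : ∀ c ∈ C, c * z * c⁻¹ * z⁻¹ ∈ B := by
      intro c hc
      refine hAC _ ?_ (C.mul_mem (C.mul_mem (C.mul_mem hc hz.2) (C.inv_mem hc)) (C.inv_mem hz.2))
      obtain ⟨h, hh, q, hq, rfl⟩ := mem_sup_of_normal_right.1 (hHQ.ge (mem_top c))
      have h1 : h * q * z * (h * q)⁻¹ * z⁻¹ = h * z * h⁻¹ * z⁻¹ := by
        calc h * q * z * (h * q)⁻¹ * z⁻¹ = h * (q * z) * q⁻¹ * h⁻¹ * z⁻¹ := by group
          _ = _ := by rw [hQab q hq z hz.1]; group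
      rw [h1]
      exact hHc h hh z hz.1
    let f : ↥C →* ↥(center X) :=
      { toFun := fun c => ⟨(c : X) * z * (c : X)⁻¹ * z⁻¹, mem_center_iff.2 (hBc _ (hval c c.2))⟩
        map_one' := Subtype.ext (by simp)
        map_mul' := fun a b => Subtype.ext (by
          have hb := hBc _ (hval b b.2)
          show (a : X) * b * z * ((a : X) * b)⁻¹ * z⁻¹ = (a : X) * z * (a : X)⁻¹ * z⁻¹ * ((b : X) * z * (b : X)⁻¹ * z⁻¹)
          calc (a : X) * b * z * ((a : X) * b)⁻¹ * z⁻¹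
              = ((a : X) * ((b : X) * z * (b : X)⁻¹ * z⁻¹)) * z * (a : X)⁻¹ * z⁻¹ := by group
            _ = ((b : X) * z * (b : X)⁻¹ * z⁻¹) * ((a : X) * z * (a : X)⁻¹ * z⁻¹) := by rw [hb]; group
            _ = _ := (hb _).symm) }
    haveI : IsMulCommutative ↥(center X) := inferInstance
    have hkill : commutator ↥C ≤ f.ker := by
      rw [_root_.commutator_def, commutator_le]
      intro a _ b _
      rw [MonoidHom.mem_ker, map_commutatorElement, commutatorElement_eq_one_iff_mul_comm]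
      exact mul_comm' _ _
    have hCz : ∀ c : ↥C, f c = 1 := by
      intro c
      have hsurjC : Function.Surjective (σ.comp C.subtype) := fun T => hσC T
      have htop : (commutator ↥C).map (σ.comp C.subtype) = ⊤ := by
        rw [_root_.commutator_def, map_commutator, ← MonoidHom.range_eq_map, MonoidHom.range_eq_top.2 hsurjC, ← _root_.commutator_def,
          CfsgLib.Classical.commutator_SL_two_eq_top h4]
      obtain ⟨d, hd, e⟩ := htop.ge (mem_top (σ (c : X)))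
      have hq : ((d⁻¹ * c : ↥C) : X) ∈ Q := (hσk _).1 (by
        rw [Subgroup.coe_mul, Subgroup.coe_inv, map_mul, map_inv, ← (show σ (d : X) = σ (c : X) from e), inv_mul_cancel])
      have h1 : f (d⁻¹ * c) = 1 := Subtype.ext (by
        show ((d⁻¹ * c : ↥C) : X) * z * ((d⁻¹ * c : ↥C) : X)⁻¹ * z⁻¹ = 1
        rw [hQab _ hq z hz.1]; group)
      rwa [map_mul, map_inv, (hkill hd : f d = 1), inv_one, one_mul] at h1
    obtain ⟨v, hv, c, hc, rfl⟩ := hGdec g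
    have h1 : c * z * c⁻¹ * z⁻¹ = 1 := congrArg Subtype.val (hCz ⟨c, hc⟩)
    have h2 : c * z = z * c := by rw [mul_inv_eq_one] at h1; exact mul_inv_eq_iff_eq_mul.1 h1
    rw [mul_assoc, h2, ← mul_assoc, hQab v (hVQ hv) z hz.1, mul_assoc]
  -- the Sylow subgroup of `C`
  have hVS : V ≤ S := hVQ.trans hQS
  have hSdec : ∀ s ∈ S, ∃ v ∈ V, ∃ c ∈ S ⊓ C, s = v * c := fun s hs => by
    obtain ⟨v, hv, c, hc, rfl⟩ := hGdec s
    exact ⟨v, hv, c, ⟨(mul_mem_cancel_left (hVS hv)).1 hs, hc⟩, rfl⟩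
  have hSCab : ∀ a ∈ S ⊓ C, ∀ b ∈ S ⊓ C, a * b = b * a := by
    have hπ : ∀ a ∈ A, ∀ w : X ⧸ V, w * QuotientGroup.mk' V a = QuotientGroup.mk' V a * w := by
      intro a ha w
      obtain ⟨w, rfl⟩ := QuotientGroup.mk'_surjective V w
      obtain ⟨v, hv, c, hc, -, rfl⟩ := hQdec a (hAQ ha)
      have hcB : c ∈ B := hAC c ((mul_mem_cancel_left (hVA hv)).1 ha) hc
      rw [map_mul (QuotientGroup.mk' V) v c, show QuotientGroup.mk' V v = 1 from (QuotientGroup.eq_one_iff v).2 hv,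
        one_mul, ← map_mul, ← map_mul, hBc c hcB w]
    intro a ha b hb
    obtain ⟨a₁, ha₁, a₂, ha₂, ea⟩ := mem_sup_of_normal_left.1 (hSY ha.1)
    obtain ⟨b₁, hb₁, b₂, hb₂, eb⟩ := mem_sup_of_normal_left.1 (hSY hb.1)
    have h1 : QuotientGroup.mk' V (a * b * (b * a)⁻¹) = 1 := by
      rw [map_mul, map_inv, map_mul, map_mul, mul_inv_eq_one, ← ea, ← eb, map_mul, map_mul]
      have c1 := hπ a₁ ha₁
      have c2 := hπ b₁ hb₁
      have c3 : Commute (QuotientGroup.mk' V a₂) (QuotientGroup.mk' V b₂) := (show Commute a₂ b₂ from hY a₂ ha₂ b₂ hb₂).map _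
      exact ((Commute.mul_left (c1 _).symm (c2 _)).mul_right (Commute.mul_left (c1 _).symm c3)).eq
    have h2 := hVC _ ((QuotientGroup.eq_one_iff _).1 h1) (C.mul_mem (C.mul_mem ha.2 hb.2) (C.inv_mem (C.mul_mem hb.2 ha.2)))
    exact mul_inv_eq_one.1 h2
  have hZS : Z ≤ S ⊓ C := hZ ▸ le_inf (inf_le_left.trans hQS) inf_le_right
  obtain ⟨R, hRS, hZR, hZR'⟩ := CfsgLib.LocalEvenB.IsoMin.exists_compl_elementary (V := S ⊓ C) (U := Z) hpp
    ⟨⟨fun a b => Subtype.ext (hSCab a a.2 b b.2)⟩⟩ (fun v hv => hexp v hv.1) hZS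
  haveI : (Z.subgroupOf C).Normal := ⟨fun a ha g => by
    rw [mem_subgroupOf] at ha ⊢
    rw [Subgroup.coe_mul, Subgroup.coe_mul, Subgroup.coe_inv, hZcen _ ha, mul_inv_cancel_right]
    exact ha⟩
  haveI : IsMulCommutative ↥(Z.subgroupOf C) := ⟨⟨fun a b => by
    refine Subtype.ext (Subtype.ext ?_)
    exact hZcen _ (mem_subgroupOf.1 b.2) _⟩⟩
  have hindex : (S.subgroupOf C).index = S.index := by
    have e1 := card_eq_mul_of_decomp (T := (⊤ : Subgroup X)) (V := V) (C := C) le_top le_top hVC fun g _ => hGdec g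
    have e2 := card_eq_mul_of_decomp (T := S) (V := V) (C := S ⊓ C) hVS inf_le_left (fun x hx hxc => hVC x hx hxc.2) hSdec
    have e3 := S.card_mul_index
    have e4 := (S.subgroupOf C).card_mul_index
    have e5 : Nat.card ↥(S.subgroupOf C) = Nat.card ↥(S ⊓ C) := by
      rw [← Nat.card_congr (Subgroup.subgroupOfEquivOfLe (inf_le_right : S ⊓ C ≤ C)).toEquiv, inf_subgroupOf_right]
    rw [Subgroup.card_top] at e1
    rw [e5] at e4
    rw [e2, e1, ← e4, mul_assoc] at e3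
    exact (Nat.eq_of_mul_eq_mul_left Nat.card_pos (Nat.eq_of_mul_eq_mul_left Nat.card_pos e3)).symm
  obtain ⟨L', hL'⟩ := CfsgLib.Core.Gaschutz.gaschutz_exists (K := Z.subgroupOf C) (U := S.subgroupOf C)
    (A := R.subgroupOf C) (fun x hx => (hZS hx).1) (by
      rw [hindex, Nat.card_congr (Subgroup.subgroupOfEquivOfLe (hZ ▸ inf_le_right : Z ≤ C)).toEquiv]
      exact hidx.coprime_dvd_left (Subgroup.card_dvd_of_le (hZ ▸ inf_le_left)))
    (by
      refine (eq_bot_iff_forall _).2 fun x hx => Subtype.ext (mem_bot.1 (hZR.le ⟨hx.2, hx.1⟩)))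
    (by
      rw [← Subgroup.subgroupOf_sup (hZ ▸ inf_le_right) (hRS.trans inf_le_right), hZR', inf_subgroupOf_right])
  have hLZ : ∀ l : ↥C, l ∈ L' → (l : X) ∈ Q → l = 1 := fun l hl hlQ => by
    have := hL'.disjoint.le_bot (⟨mem_subgroupOf.2 (hZ ▸ ⟨hlQ, l.2⟩), hl⟩ : l ∈ Z.subgroupOf C ⊓ L')
    exact mem_bot.1 this
  have hCdec : ∀ c : ↥C, ∃ z ∈ Z, ∃ l ∈ L', (c : X) = z * (l : ↥C) := fun c => by
    obtain ⟨⟨z, l⟩, e, -⟩ := hL'.existsUnique c
    exact ⟨_, mem_subgroupOf.1 z.2, _, l.2, (congrArg Subtype.val e).symm⟩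
  have hebij : Function.Bijective ((σ.comp C.subtype).comp L'.subtype) := by
    refine ⟨(injective_iff_map_eq_one _).2 fun l hl => Subtype.ext (hLZ l l.2 ((hσk _).1 hl)), fun T => ?_⟩
    obtain ⟨c, rfl⟩ := hσC T
    obtain ⟨z, hz, l, hl, e⟩ := hCdec c
    refine ⟨⟨l, hl⟩, ?_⟩
    show σ ((l : ↥C) : X) = _
    rw [e, map_mul, (hσk z).2 (hZ.le hz).1, one_mul]
  obtain ⟨e, he⟩ : ∃ e : ↥L' ≃* SL(2, F), ∀ l : ↥L', e l = σ ((l : ↥C) : X) :=
    ⟨MulEquiv.ofBijective _ hebij, fun l => rfl⟩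
  let lf : SL(2, F) →* X := (C.subtype.comp L'.subtype).comp e.symm.toMonoidHom
  have hlσ : ∀ T, σ (lf T) = T := fun T => (he (e.symm T)).symm.trans (e.apply_symm_apply T)
  have hlC : ∀ T, lf T ∈ C := fun T => ((e.symm T : ↥L') : ↥C).2
  -- the vectors
  have hχinj : ∀ a ∈ V, ∀ b ∈ V, χ a = χ b → a = b := fun a ha b hb e => by
    have hab := mul_mem ha (inv_mem hb)
    have h0 : χ (a * b⁻¹) = 0 := by
      have h1 := hadd _ (hVA hab) _ (hVA hb)
      rw [inv_mul_cancel_right, e] at h1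
      exact right_eq_add.1 h1
    exact mul_inv_eq_one.1 (hVC _ hab (hBC ((hk _ (hVA hab)).1 h0)))
  have hVsur : ∀ w, ∃ v ∈ V, χ v = w := fun w => by
    obtain ⟨a, ha, rfl⟩ := hsur w
    obtain ⟨v, hv, c, hc, -, rfl⟩ := hQdec a (hAQ ha)
    have hcA : c ∈ A := (mul_mem_cancel_left (hVA hv)).1 ha
    exact ⟨v, hv, by rw [hadd _ (hVA hv) _ hcA, (hk _ hcA).2 (hAC c hcA hc), add_zero]⟩
  choose vf hvV hvχ using hVsur
  have hvadd : ∀ a b, vf (a + b) = vf a * vf b := fun a b =>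
    hχinj _ (hvV _) _ (mul_mem (hvV _) (hvV _)) (by rw [hadd _ (hVA (hvV a)) _ (hVA (hvV b)), hvχ, hvχ, hvχ])
  have hvconj : ∀ (T : SL(2, F)) w, lf T * vf w * (lf T)⁻¹ = vf ((T : Matrix (Fin 2) (Fin 2) F) *ᵥ w) := fun T w =>
    hχinj _ (hVn.conj_mem _ (hvV w) _) _ (hvV _) (by rw [hact _ _ (hVA (hvV w)), hlσ, hvχ, hvχ])
  have hv0 : vf 0 = 1 := by
    have := hvadd 0 0
    rw [add_zero] at this
    exact (left_eq_mul.1 this)
  let ψ : ↥(Cfsg.qdOver F) →* X :=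
    { toFun := fun M => vf (CfsgLib.LocalEven.Qd.trans M) * lf (CfsgLib.LocalEven.Qd.block F M)
      map_one' := by
        have : CfsgLib.LocalEven.Qd.trans (1 : ↥(Cfsg.qdOver F)) = 0 := by
          ext i; fin_cases i <;> simp [CfsgLib.LocalEven.Qd.trans]
        rw [this, hv0, map_one, map_one, one_mul]
      map_mul' := fun M N => by
        rw [CfsgLib.LocalEven.Qd.trans_mul, add_comm, hvadd, ← hvconj, map_mul, map_mul]
        group }
  refine ⟨ψ, Z, ?_, ⟨⟨⟨fun a b => Subtype.ext (hZcen b b.2 a)⟩⟩, fun a ha => hexp a (hZS ha).1⟩, hZcen, ?_, ?_⟩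
  · refine (injective_iff_map_eq_one ψ).2 fun M hM => ?_
    have hM' : vf (CfsgLib.LocalEven.Qd.trans M) * lf (CfsgLib.LocalEven.Qd.block F M) = 1 := hM
    have h1 : vf (CfsgLib.LocalEven.Qd.trans M) = 1 := hVC _ (hvV _) (by
      rw [eq_inv_of_mul_eq_one_left hM']; exact inv_mem (hlC _))
    rw [h1, one_mul] at hM'
    refine CfsgLib.LocalEven.Qd.ext_parts ?_ ?_
    · have := congrArg σ hM'
      rw [hlσ, map_one] at this
      rw [this, map_one]
    · have h2 := hvχ (CfsgLib.LocalEven.Qd.trans M)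
      rw [h1, ← hv0, hvχ] at h2
      rw [← h2]
      ext i; fin_cases i <;> simp [CfsgLib.LocalEven.Qd.trans]
  · refine (eq_bot_iff_forall _).2 ?_
    rintro x ⟨⟨M, rfl⟩, hxZ⟩
    have hxQC : ψ M ∈ Q ⊓ C := hZ ▸ hxZ
    have h1 : vf (CfsgLib.LocalEven.Qd.trans M) = 1 := hVC _ (hvV _) ((mul_mem_cancel_right (hlC _)).1 hxQC.2)
    have h2 : ψ M = lf (CfsgLib.LocalEven.Qd.block F M) := by
      show vf _ * lf _ = _
      rw [h1, one_mul]
    have h3 := (hσk _).2 hxQC.1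
    rw [h2, hlσ] at h3
    rw [h2, h3, map_one]
  · rw [eq_top_iff]
    intro g _
    obtain ⟨v, hv, c, hc, rfl⟩ := hGdec g
    obtain ⟨z, hz, l, hl, ec⟩ := hCdec ⟨c, hc⟩
    have ec' : c = z * ((l : ↥C) : X) := ec
    refine mul_mem (mem_sup_left ⟨CfsgLib.LocalEven.Qd.mkElt F 1 (χ v), ?_⟩) (ec' ▸
      mul_mem (mem_sup_right hz) (mem_sup_left ⟨CfsgLib.LocalEven.Qd.mkElt F (σ ((l : ↥C) : X)) 0, ?_⟩))
    · show vf _ * lf _ = v
      rw [CfsgLib.LocalEven.Qd.trans_mkElt, CfsgLib.LocalEven.Qd.block_mkElt, map_one, mul_one]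
      exact hχinj _ (hvV _) _ hv (hvχ _)
    · show vf _ * lf _ = _
      rw [CfsgLib.LocalEven.Qd.trans_mkElt, CfsgLib.LocalEven.Qd.block_mkElt, hv0, one_mul]
      show ((e.symm (σ ((l : ↥C) : X)) : ↥L') : X) = _
      rw [← he ⟨l, hl⟩, e.symm_apply_apply]

end CfsgLib.PushUp
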